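import Cfsg.Agent.Lib.CosetEnum.SuzU43.TabF_Data0
import Cfsg.Agent.Lib.CosetEnum.SuzU43.TabC_Data0
import Cfsg.Agent.Lib.CosetEnum.SuzU43.TabC_Data1
import Cfsg.Agent.Lib.CosetEnum.SuzU43.TabC_Data2
import Cfsg.Agent.Lib.CosetEnum.SuzU43.TabC_Data3
import Cfsg.Agent.Lib.CosetEnum.SuzU43.TabC_Data4
import Cfsg.Agent.Lib.CosetEnum.SuzU43.TabC_Data5
import Cfsg.Agent.Lib.CosetEnum.SuzU43.TabC_Data6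
import Cfsg.Agent.Lib.CosetEnum.SuzU43.TabC_Data7
import Cfsg.Agent.Lib.CosetEnum.SuzU43.TabC_Data8
import Cfsg.Agent.Lib.CosetEnum.SuzU43.TabC_Data9
import Cfsg.Agent.Lib.CosetEnum.SuzU43.TabC_Data10
import Cfsg.Agent.Lib.CosetEnum.SuzU43.TabC_Data11
import Cfsg.Agent.Lib.CosetEnum.SuzU43.TabC_Data12
import Cfsg.Agent.Lib.CosetEnum.SuzU43.TabC_Data13
import Cfsg.Agent.Lib.CosetEnum.SuzU43.TabC_Data14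
import Cfsg.Agent.Lib.CosetEnum.SuzU43.TabC_Data15
import Cfsg.Agent.Lib.CosetEnum.SuzU43.TabC_Data16
import Cfsg.Agent.Lib.CosetEnum.SuzU43.TabC_Data17
import Cfsg.Agent.Lib.CosetEnum.SuzU43.TabC_Data18
import Cfsg.Agent.Lib.CosetEnum.SuzU43.TabC_Data19
import Cfsg.Agent.Lib.CosetEnum.SuzU43.TabC_Data20
import Cfsg.Agent.Lib.CosetEnum.SuzU43.TabC_Data21
import Cfsg.Agent.Lib.CosetEnum.SuzU43.TabC_Data22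
import Cfsg.Agent.Lib.CosetEnum.SuzU43.TabC_Data23
import Cfsg.Agent.Lib.CosetEnum.SuzU43.TabC_Data24
import Cfsg.Agent.Lib.CosetEnum.SuzU43.TabC_Data25
import Cfsg.Agent.Lib.CosetEnum.SuzU43.TabC_Data26
import Cfsg.Agent.Lib.CosetEnum.SuzU43.TabC_Data27
import Cfsg.Agent.Lib.CosetEnum.SuzU43.TabC_Data28
import Cfsg.Agent.Lib.CosetEnum.SuzU43.TabC_Data29
import Cfsg.Agent.Lib.CosetEnum.SuzU43.TabC_Data30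
import Cfsg.Agent.Lib.CosetEnum.SuzU43.TabC_Data31
import Cfsg.Agent.Lib.CosetEnum.SuzU43.TabZ_Data0
import Cfsg.Agent.Lib.CosetEnum.SuzU43.TabZ_Data1
import Cfsg.Agent.Lib.CosetEnum.SuzU43.TabP_Data0
import Cfsg.Agent.Lib.CosetEnum.SuzU43.TabP_Data1

/-! Generated certificate. -/

set_option autoImplicit false
set_option maxRecDepth 20000

namespace Cfsg.Lib.CosetEnum.SuzU43

/-- Table. -/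
def tabF : Tab :=
  tabF_0

/-- Table. -/
def tabC : Tab :=
  (.node 32768 (.node 16384 (.node 8192 (.node 4096 (.node 2048 tabC_0 tabC_1) (.node 2048 tabC_2 tabC_3)) (.node 4096 (.node 2048 tabC_4 tabC_5) (.node 2048 tabC_6 tabC_7))) (.node 8192 (.node 4096 (.node 2048 tabC_8 tabC_9) (.node 2048 tabC_10 tabC_11)) (.node 4096 (.node 2048 tabC_12 tabC_13) (.node 2048 tabC_14 tabC_15)))) (.node 16384 (.node 8192 (.node 4096 (.node 2048 tabC_16 tabC_17) (.node 2048 tabC_18 tabC_19)) (.node 4096 (.node 2048 tabC_20 tabC_21) (.node 2048 tabC_22 tabC_23))) (.node 8192 (.node 4096 (.node 2048 tabC_24 tabC_25) (.node 2048 tabC_26 tabC_27)) (.node 4096 (.node 2048 tabC_28 tabC_29) (.node 2048 tabC_30 tabC_31)))))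

/-- Table. -/
def tabZ : Tab :=
  (.node 2048 tabZ_0 tabZ_1)

/-- Table. -/
def tabP : Tab :=
  (.node 2048 tabP_0 tabP_1)

/-- The shifts in use. -/
def relWords : List (List Nat) :=
  [[0, 0],
    [1, 1],
    [2, 2],
    [3, 3],
    [4, 4],
    [5, 5],
    [6, 6],
    [0, 1, 0, 1, 0, 1, 0, 1, 0, 1],
    [0, 2, 0, 2],
    [0, 3, 0, 3],
    [0, 4, 0, 4],
    [0, 5, 0, 5],
    [0, 6, 0, 6],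
    [1, 2, 1, 2, 1, 2],
    [1, 3, 1, 3],
    [1, 4, 1, 4],
    [1, 5, 1, 5, 1, 5],
    [1, 6, 1, 6, 1, 6],
    [2, 3, 2, 3, 2, 3, 2, 3, 2, 3, 2, 3, 2, 3, 2, 3],
    [2, 4, 2, 4],
    [2, 5, 2, 5],
    [2, 6, 2, 6],
    [3, 4, 3, 4, 3, 4],
    [3, 5, 3, 5],
    [3, 6, 3, 6],
    [4, 5, 4, 5],
    [4, 6, 4, 6],
    [5, 6, 5, 6, 5, 6, 5, 6],
    [0, 3, 2, 3, 2, 3, 2, 3, 2],
    [0, 6, 5, 6, 5],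
    [0, 1, 2, 5, 0, 1, 2, 5, 0, 1, 2, 5, 0, 1, 2, 5, 0, 1, 2, 5],
    [1, 5, 6, 1, 5, 6, 1, 5, 6, 1, 5, 6, 1, 5, 6],
    [1, 2, 3, 2, 3, 1, 2, 3, 2, 3, 1, 2, 3, 2, 3, 1, 2, 3, 2, 3, 1, 2, 3, 2, 3, 4, 1, 2, 3, 2, 3, 1, 2, 3, 2, 3, 1, 2, 3, 2, 3, 1, 2, 3, 2, 3, 1, 2, 3, 2, 3, 4, 1, 2, 3, 2, 3, 1, 2, 3, 2, 3, 1, 2, 3, 2, 3, 1, 2, 3, 2, 3, 1, 2, 3, 2, 3, 4],
    [5, 3, 5, 3],
    [6, 3, 6, 3],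
    [6, 5, 6, 5, 0],
    [2, 3, 2, 3, 2, 0, 3, 2, 3],
    [2, 0, 3, 2, 3, 2, 3, 2, 3],
    [2, 3, 0, 2, 3, 2, 3, 2, 3],
    [3, 1, 3, 1],
    [3, 2, 3, 2, 3, 0, 2, 3, 2],
    [2, 1, 2, 1, 2, 1],
    [2, 0, 2, 0],
    [4, 1, 4, 1],
    [5, 2, 5, 2],
    [5, 4, 5, 4],
    [4, 0, 4, 0],
    [4, 2, 4, 2],
    [3, 2, 3, 2, 0, 3, 2, 3, 2],
    [3, 2, 0, 3, 2, 3, 2, 3, 2],
    [5, 1, 5, 1, 5, 1],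
    [5, 6, 5, 0, 6],
    [5, 0, 6, 5, 6],
    [6, 2, 6, 2],
    [6, 4, 6, 4],
    [5, 0, 5, 0],
    [3, 0, 3, 0],
    [4, 3, 4, 3, 4, 3],
    [3, 2, 3, 2, 3, 2, 0, 3, 2],
    [3, 0, 2, 3, 2, 3, 2, 3, 2],
    [0, 2, 3, 2, 3, 2, 3, 2, 3],
    [2, 3, 2, 3, 2, 3, 2, 0, 3],
    [6, 5, 0, 6, 5],
    [2, 3, 2, 0, 3, 2, 3, 2, 3],
    [3, 2, 3, 0, 2, 3, 2, 3, 2],
    [0, 5, 6, 5, 6],
    [2, 3, 2, 3, 0, 2, 3, 2, 3],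
    [2, 3, 2, 3, 2, 3, 2, 3, 0],
    [2, 3, 2, 3, 2, 3, 0, 2, 3],
    [3, 2, 3, 2, 3, 2, 3, 2, 0],
    [1, 0, 1, 0, 1, 0, 1, 0, 1, 0],
    [3, 2, 3, 2, 3, 2, 3, 0, 2],
    [6, 0, 6, 0],
    [5, 6, 0, 5, 6],
    [6, 1, 6, 1, 6, 1],
    [6, 5, 6, 5, 6, 5, 6, 5],
    [6, 5, 6, 0, 5],
    [6, 0, 5, 6, 5],
    [5, 6, 5, 6, 0]]

/-- Subgroup words. -/
def subWords : List (List Nat) :=
  [[0],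
    [1],
    [2],
    [3],
    [5],
    [6]]

/-- The certificate. -/
def step : StepCert :=
  ⟨relWords, subWords, [0, 1, 2, 3, 4, 5, 6], tabF, tabC, tabZ, tabP, 31806, 64724, 22880, 7⟩

/-- All relator words. -/
def baseWords : List (List Nat) :=
  [[0, 0],
    [1, 0, 1, 0, 1, 0, 1, 0, 1, 0],
    [2, 0, 2, 0],
    [3, 0, 3, 0],
    [4, 0, 4, 0],
    [5, 0, 5, 0],
    [6, 0, 6, 0],
    [0, 1, 0, 1, 0, 1, 0, 1, 0, 1],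
    [1, 1],
    [2, 1, 2, 1, 2, 1],
    [3, 1, 3, 1],
    [4, 1, 4, 1],
    [5, 1, 5, 1, 5, 1],
    [6, 1, 6, 1, 6, 1],
    [0, 2, 0, 2],
    [1, 2, 1, 2, 1, 2],
    [2, 2],
    [3, 2, 3, 2, 3, 2, 3, 2, 3, 2, 3, 2, 3, 2, 3, 2],
    [4, 2, 4, 2],
    [5, 2, 5, 2],
    [6, 2, 6, 2],
    [0, 3, 0, 3],
    [1, 3, 1, 3],
    [2, 3, 2, 3, 2, 3, 2, 3, 2, 3, 2, 3, 2, 3, 2, 3],
    [3, 3],
    [4, 3, 4, 3, 4, 3],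
    [5, 3, 5, 3],
    [6, 3, 6, 3],
    [0, 4, 0, 4],
    [1, 4, 1, 4],
    [2, 4, 2, 4],
    [3, 4, 3, 4, 3, 4],
    [4, 4],
    [5, 4, 5, 4],
    [6, 4, 6, 4],
    [0, 5, 0, 5],
    [1, 5, 1, 5, 1, 5],
    [2, 5, 2, 5],
    [3, 5, 3, 5],
    [4, 5, 4, 5],
    [5, 5],
    [6, 5, 6, 5, 6, 5, 6, 5],
    [0, 6, 0, 6],
    [1, 6, 1, 6, 1, 6],
    [2, 6, 2, 6],
    [3, 6, 3, 6],
    [4, 6, 4, 6],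
    [5, 6, 5, 6, 5, 6, 5, 6],
    [6, 6],
    [2, 3, 2, 3, 2, 3, 2, 3, 0],
    [5, 6, 5, 6, 0],
    [5, 2, 1, 0, 5, 2, 1, 0, 5, 2, 1, 0, 5, 2, 1, 0, 5, 2, 1, 0],
    [6, 5, 1, 6, 5, 1, 6, 5, 1, 6, 5, 1, 6, 5, 1],
    [4, 3, 2, 3, 2, 1, 3, 2, 3, 2, 1, 3, 2, 3, 2, 1, 3, 2, 3, 2, 1, 3, 2, 3, 2, 1, 4, 3, 2, 3, 2, 1, 3, 2, 3, 2, 1, 3, 2, 3, 2, 1, 3, 2, 3, 2, 1, 3, 2, 3, 2, 1, 4, 3, 2, 3, 2, 1, 3, 2, 3, 2, 1, 3, 2, 3, 2, 1, 3, 2, 3, 2, 1, 3, 2, 3, 2, 1]]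

/-- Relator words checked on the table. -/
def halfWords : List (List Nat) :=
  [[0, 0],
    [1, 0, 1, 0, 1, 0, 1, 0, 1, 0],
    [2, 0, 2, 0],
    [3, 0, 3, 0],
    [4, 0, 4, 0],
    [5, 0, 5, 0],
    [6, 0, 6, 0],
    [1, 1],
    [2, 1, 2, 1, 2, 1],
    [3, 1, 3, 1],
    [4, 1, 4, 1],
    [5, 1, 5, 1, 5, 1],
    [6, 1, 6, 1, 6, 1],
    [2, 2],
    [3, 2, 3, 2, 3, 2, 3, 2, 3, 2, 3, 2, 3, 2, 3, 2],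
    [4, 2, 4, 2],
    [5, 2, 5, 2],
    [6, 2, 6, 2],
    [3, 3],
    [4, 3, 4, 3, 4, 3],
    [5, 3, 5, 3],
    [6, 3, 6, 3],
    [4, 4],
    [5, 4, 5, 4],
    [6, 4, 6, 4],
    [5, 5],
    [6, 5, 6, 5, 6, 5, 6, 5],
    [6, 6],
    [2, 3, 2, 3, 2, 3, 2, 3, 0],
    [5, 6, 5, 6, 0],
    [5, 2, 1, 0, 5, 2, 1, 0, 5, 2, 1, 0, 5, 2, 1, 0, 5, 2, 1, 0],
    [6, 5, 1, 6, 5, 1, 6, 5, 1, 6, 5, 1, 6, 5, 1],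
    [4, 3, 2, 3, 2, 1, 3, 2, 3, 2, 1, 3, 2, 3, 2, 1, 3, 2, 3, 2, 1, 3, 2, 3, 2, 1, 4, 3, 2, 3, 2, 1, 3, 2, 3, 2, 1, 3, 2, 3, 2, 1, 3, 2, 3, 2, 1, 3, 2, 3, 2, 1, 4, 3, 2, 3, 2, 1, 3, 2, 3, 2, 1, 3, 2, 3, 2, 1, 3, 2, 3, 2, 1, 3, 2, 3, 2, 1]]

/-- The certificate. -/
def cert : IndexCert :=
  ⟨baseWords, halfWords, step⟩

end Cfsg.Lib.CosetEnum.SuzU43
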