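import Cfsg.Agent.Lib.CosetEnum.SuzU43.Data

/-! Generated certificate. -/

set_option autoImplicit false
set_option maxRecDepth 20000

namespace Cfsg.Lib.CosetEnum.SuzU43

theorem perm_4 : permOK tabP 7 22880 halfWords 900 3600 = true := by decide +kernel

theorem perm_5 : permOK tabP 7 22880 halfWords 900 4500 = true := by decide +kernel

end Cfsg.Lib.CosetEnum.SuzU43
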