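import Cfsg.Agent.Lib.CosetEnum.SuzU43.DefsPart0
import Cfsg.Agent.Lib.CosetEnum.SuzU43.DefsPart1
import Cfsg.Agent.Lib.CosetEnum.SuzU43.StepsPart0
import Cfsg.Agent.Lib.CosetEnum.SuzU43.StepsPart1
import Cfsg.Agent.Lib.CosetEnum.SuzU43.StepsPart2
import Cfsg.Agent.Lib.CosetEnum.SuzU43.StepsPart3
import Cfsg.Agent.Lib.CosetEnum.SuzU43.StepsPart4
import Cfsg.Agent.Lib.CosetEnum.SuzU43.StepsPart5
import Cfsg.Agent.Lib.CosetEnum.SuzU43.StepsPart6
import Cfsg.Agent.Lib.CosetEnum.SuzU43.StepsPart7
import Cfsg.Agent.Lib.CosetEnum.SuzU43.StepsPart8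
import Cfsg.Agent.Lib.CosetEnum.SuzU43.StepsPart9
import Cfsg.Agent.Lib.CosetEnum.SuzU43.StepsPart10
import Cfsg.Agent.Lib.CosetEnum.SuzU43.StepsPart11
import Cfsg.Agent.Lib.CosetEnum.SuzU43.StepsPart12
import Cfsg.Agent.Lib.CosetEnum.SuzU43.StepsPart13
import Cfsg.Agent.Lib.CosetEnum.SuzU43.StepsPart14
import Cfsg.Agent.Lib.CosetEnum.SuzU43.StepsPart15
import Cfsg.Agent.Lib.CosetEnum.SuzU43.StepsPart16
import Cfsg.Agent.Lib.CosetEnum.SuzU43.StepsPart17
import Cfsg.Agent.Lib.CosetEnum.SuzU43.StepsPart18
import Cfsg.Agent.Lib.CosetEnum.SuzU43.StepsPart19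
import Cfsg.Agent.Lib.CosetEnum.SuzU43.StepsPart20
import Cfsg.Agent.Lib.CosetEnum.SuzU43.StepsPart21
import Cfsg.Agent.Lib.CosetEnum.SuzU43.ClosedPart0
import Cfsg.Agent.Lib.CosetEnum.SuzU43.ClosedPart1
import Cfsg.Agent.Lib.CosetEnum.SuzU43.PermPart0
import Cfsg.Agent.Lib.CosetEnum.SuzU43.PermPart1
import Cfsg.Agent.Lib.CosetEnum.SuzU43.PermPart2
import Cfsg.Agent.Lib.CosetEnum.SuzU43.PermPart3
import Cfsg.Agent.Lib.CosetEnum.SuzU43.PermPart4
import Cfsg.Agent.Lib.CosetEnum.SuzU43.PermPart5
import Cfsg.Agent.Lib.CosetEnum.SuzU43.PermPart6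
import Cfsg.Agent.Lib.CosetEnum.SuzU43.PermPart7
import Cfsg.Agent.Lib.CosetEnum.SuzU43.PermPart8
import Cfsg.Agent.Lib.CosetEnum.SuzU43.PermPart9
import Cfsg.Agent.Lib.CosetEnum.SuzU43.PermPart10
import Cfsg.Agent.Lib.CosetEnum.SuzU43.PermPart11
import Cfsg.Agent.Lib.CosetEnum.SuzU43.PermPart12

/-! Generated certificate. -/

set_option autoImplicit false
set_option maxRecDepth 20000

namespace Cfsg.Lib.CosetEnum.SuzU43

theorem cert_valid : cert.Valid where
  valid :=
    { pos := by decide +kernel
      shifts := by decide +kernel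
      defs := (defsOK_append (a := 16000) (b := 15806) (defsOK_append (a := 8000) (b := 8000) (defsOK_append (a := 4000) (b := 4000) defs_0 defs_1) (defsOK_append (a := 4000) (b := 4000) defs_2 defs_3)) (defsOK_append (a := 8000) (b := 7806) (defsOK_append (a := 4000) (b := 4000) defs_4 defs_5) (defsOK_append (a := 4000) (b := 3806) defs_6 defs_7)))
      steps := (stepsOK_append (m := 33000) (n := 31724) (stepsOK_append (m := 16500) (n := 16500) (stepsOK_append (m := 7500) (n := 9000) (stepsOK_append (m := 3000) (n := 4500) (stepsOK_append (m := 1500) (n := 1500) steps_0 steps_1) (stepsOK_append (m := 1500) (n := 3000) steps_2 (stepsOK_append (m := 1500) (n := 1500) steps_3 steps_4))) (stepsOK_append (m := 4500) (n := 4500) (stepsOK_append (m := 1500) (n := 3000) steps_5 (stepsOK_append (m := 1500) (n := 1500) steps_6 steps_7)) (stepsOK_append (m := 1500) (n := 3000) steps_8 (stepsOK_append (m := 1500) (n := 1500) steps_9 steps_10)))) (stepsOK_append (m := 7500) (n := 9000) (stepsOK_append (m := 3000) (n := 4500) (stepsOK_append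 (m := 1500) (n := 1500) steps_11 steps_12) (stepsOK_append (m := 1500) (n := 3000) steps_13 (stepsOK_append (m := 1500) (n := 1500) steps_14 steps_15))) (stepsOK_append (m := 4500) (n := 4500) (stepsOK_append (m := 1500) (n := 3000) steps_16 (stepsOK_append (m := 1500) (n := 1500) steps_17 steps_18)) (stepsOK_append (m := 1500) (n := 3000) steps_19 (stepsOK_append (m := 1500) (n := 1500) steps_20 steps_21))))) (stepsOK_append (m := 16500) (n := 15224) (stepsOK_append (m := 7500) (n := 9000) (stepsOK_append (m := 3000) (n := 4500) (stepsOK_append (m := 1500) (n := 1500) steps_22 steps_23) (stepsOK_append (m := 1500) (n := 3000) steps_24 (stepsOK_append (m := 1500) (n := 1500) steps_25 steps_26))) (stepsOK_append (m := 4500) (n := 4500) (stepsOK_append (m := 1500) (n := 3000) steps_27 (stepsOK_append (m := 1500) (n := 1500) steps_28 steps_29)) (stepsOK_append (m := 1500) (n := 3000) steps_30 (stepsOK_append (m := 1500) (n := 1500) steps_31 steps_32)))) (stepsOK_append (m := 7500) (n := 7724) (stepsOK_append (m := 3000)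 (n := 4500) (stepsOK_append (m := 1500) (n := 1500) steps_33 steps_34) (stepsOK_append (m := 1500) (n := 3000) steps_35 (stepsOK_append (m := 1500) (n := 1500) steps_36 steps_37))) (stepsOK_append (m := 4500) (n := 3224) (stepsOK_append (m := 1500) (n := 3000) steps_38 (stepsOK_append (m := 1500) (n := 1500) steps_39 steps_40)) (stepsOK_append (m := 1500) (n := 1724) steps_41 (stepsOK_append (m := 1500) (n := 224) steps_42 steps_43))))))
      closed := (closedOK_append (a := 12000) (b := 10880) (closedOK_append (a := 4000) (b := 8000) closed_0 (closedOK_append (a := 4000) (b := 4000) closed_1 closed_2)) (closedOK_append (a := 4000) (b := 6880) closed_3 (closedOK_append (a := 4000) (b := 2880) closed_4 closed_5))) }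
  pos := by decide +kernel
  halves := by decide +kernel
  perm := (permOK_append (a := 11700) (b := 11180) (permOK_append (a := 5400) (b := 6300) (permOK_append (a := 2700) (b := 2700) (permOK_append (a := 900) (b := 1800) perm_0 (permOK_append (a := 900) (b := 900) perm_1 perm_2)) (permOK_append (a := 900) (b := 1800) perm_3 (permOK_append (a := 900) (b := 900) perm_4 perm_5))) (permOK_append (a := 2700) (b := 3600) (permOK_append (a := 900) (b := 1800) perm_6 (permOK_append (a := 900) (b := 900) perm_7 perm_8)) (permOK_append (a := 1800) (b := 1800) (permOK_append (a := 900) (b := 900) perm_9 perm_10) (permOK_append (a := 900) (b := 900) perm_11 perm_12)))) (permOK_append (a := 5400) (b := 5780) (permOK_append (a := 2700) (b := 2700) (permOK_append (a := 900) (b := 1800) perm_13 (permOK_append (a := 900) (b := 900) perm_14 perm_15)) (permOK_append (a := 900) (b := 1800) perm_16 (permOK_append (a := 900) (b := 900) perm_17 perm_18))) (permOK_append (a := 2700) (b := 3080) (permOK_append (a := 900) (b := 1800) perm_19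 (permOK_append (a := 900) (b := 900) perm_20 perm_21)) (permOK_append (a := 1800) (b := 1280) (permOK_append (a := 900) (b := 900) perm_22 perm_23) (permOK_append (a := 900) (b := 380) perm_24 perm_25)))))
  tree := by decide +kernel
  fix := by decide +kernel

end Cfsg.Lib.CosetEnum.SuzU43
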